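import Cfsg.Agent.CosetEnum.Suz.Setup
import Cfsg.Agent.SporadicMult.SuzCoverData

/-! The letters acting on the 196560 points of the sixfold cover of the sporadic Suzuki group. -/

set_option autoImplicit false

namespace CfsgLib.SporadicMult.Suz

open CfsgLib.CosetEnum

/-- The image of the point `p` under the lift of generator `x`. -/
noncomputable def cstep (x p : ℕ) : ℕ :=
  force (Nat.div p 3072) fun k =>
    force (ext (etb x k) (Nat.mod (Nat.div p 6) 512)) fun e =>
      Nat.add (Nat.mul 6 (Nat.div e 6)) (Nat.mod (Nat.add (Nat.mod e 6) (Nat.mod p 6)) 6)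

/-- The end of the path of a word, read from left to right. -/
noncomputable def cwalk (w : List ℕ) (p : ℕ) : ℕ :=
  List.rec (fun p => p) (fun x _ ih p => force (cstep x p) ih) w p

/-- A relator shifts the first point over `j` by its constant. -/
noncomputable def okRel (r j : ℕ) : Bool :=
  bif Nat.blt j 32760 then
    Nat.beq (cwalk (CosetEnum.Suz.words.getD r []) (Nat.mul 6 j))
      (Nat.add (Nat.mul 6 j) (relShift.getD r 0))
  else true

/-- The image of the first point over `j` is a point. -/
noncomputable def okStep (x j : ℕ) : Bool :=
  bif Nat.blt j 32760 then Nat.blt (cstep x (Nat.mul 6 j)) 196560 else true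

end CfsgLib.SporadicMult.Suz
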