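import Cfsg.Agent.SporadicMult.SuzCheck3
import Cfsg.Agent.Schur.PermCertForce
import Cfsg.Agent.SporadicMult.SuzCoverStep
import Cfsg.Agent.CosetEnum.SuzH.Data

/-! Kernel checks of the certificates for the multiplier of the sporadic Suzuki group. -/

set_option autoImplicit false
set_option Elab.async false
set_option maxRecDepth 100000

namespace CfsgLib.SporadicMult.Suz

open CfsgLib.CosetEnum CfsgLib.Schur.PermCert

/-- The tables of the generators on both sets of points. -/
noncomputable def tab (x i : ℕ) : ℕ :=
  bif Nat.blt x 7 then
    (bif Nat.blt i 1782 then T SuzH.enum.tb x i else Nat.add 1782 (cstep x (Nat.sub i 1782)))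
  else i

/-- Five base points. -/
def base : List ℕ := [0, 1, 2, 380, 1782]

theorem ok2 : data2.ok tab 198342 base = true := by decide +kernel

theorem eqs2 : data2.cert.eqsCheck = true := by decide +kernel

theorem lin2 : data2.cert.linCheck = true := by decide +kernel

theorem ok3 : oddSepOk cert3 words3 fusWords3 sep3 tab 198342 base = true :=
  (oddSepOkF_eq ..).symm.trans (by decide +kernel)

theorem ok5 : oddSepOk cert5 words5 fusWords5 sep5 tab 198342 base = true :=
  (oddSepOkF_eq ..).symm.trans (by decide +kernel)

theorem check5 : cert5.check = true := by decide +kernel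

theorem ok7 : primeOk 7 word7 moved7 tab 198342 base = true := by decide +kernel

theorem ok11 : primeOk 11 word11 moved11 tab 198342 base = true := by decide +kernel

theorem ok13 : primeOk 13 word13 moved13 tab 198342 base = true := by decide +kernel

end CfsgLib.SporadicMult.Suz
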