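import Cfsg.Agent.SporadicMult.SuzCoverGroup
import Cfsg.Agent.CosetEnum.SuzSimple.Final
import Cfsg.Agent.SchurTheory.Covers

/-!
The sixfold cover maps onto the presented sporadic Suzuki group with central kernel of order six,
and is perfect.
-/

set_option autoImplicit false
set_option linter.style.haveILetI false
set_option maxRecDepth 10000

namespace CfsgLib.SporadicMult.Suz

open CfsgLib.CosetEnum Cfsg.Spor

variable (C : Checks)

/-- The central subgroup. -/
def center6 : Subgroup (cover C) := Subgroup.zpowers (xi C)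

instance center6_normal : (center6 C).Normal :=
  ⟨fun n hn g => by
    have hz : n ∈ Subgroup.center (cover C) :=
      (Subgroup.zpowers_le.mpr (xi_central C)) hn
    rwa [Subgroup.mem_center_iff.mp hz g, mul_inv_cancel_right]⟩

/-- The generators modulo the centre. -/
noncomputable def gq (x : ℕ) : cover C ⧸ center6 C := QuotientGroup.mk (gc C x)

theorem prodw_gq (r : ℕ) (hr : r < 33) :
    prodw (gq C) (CosetEnum.Suz.words.getD r []) = 1 := by
  have h : prodw (gq C) (CosetEnum.Suz.words.getD r []) =
      QuotientGroup.mk' (center6 C) (prodw (gc C) (CosetEnum.Suz.words.getD r [])) := by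
    simp only [prodw, map_list_prod, List.map_map]
    rfl
  rw [h, eq_inv_of_mul_eq_one_left (prodw_gc C r hr), map_inv, inv_eq_one]
  exact (QuotientGroup.eq_one_iff _).mpr (Subgroup.pow_mem _ (Subgroup.mem_zpowers _) _)

/-- The presented group maps onto the cover modulo its centre. -/
theorem exists_psi : ∃ ψ : CosetEnum.Suz.setup.Grp →* cover C ⧸ center6 C,
    ∀ x < 7, ψ (CosetEnum.Suz.setup.g x) = gq C x := by
  let S := CosetEnum.Suz.setup
  let f : Suz.Gen → cover C ⧸ center6 C := fun a => gq C (S.ix a)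
  have hf : ∀ x < 7, f (S.en x) = gq C x := fun x hx => by
    show gq C (S.ix (S.en x)) = _
    rw [S.ix_en x hx]
  have hlt : ∀ w ∈ S.words, ∀ x ∈ w, x < 7 := show ∀ w ∈ CosetEnum.Suz.words, ∀ x ∈ w, x < 7 by
    decide +kernel
  have hone : ∀ w ∈ S.words, prodw (f ∘ S.en) w = 1 := by
    intro w hw
    have e : prodw (f ∘ S.en) w = prodw (gq C) w := by
      simp only [prodw]
      exact congrArg List.prod (List.map_congr_left fun x hx => hf x (hlt w hw x hx))
    obtain ⟨r, hr, rfl⟩ := List.getElem_of_mem hw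
    rw [e, ← List.getD_eq_getElem _ [] hr]
    exact prodw_gq C r hr
  have hsq : ∀ a, f a * f a = 1 := by
    intro a
    obtain ⟨hr, hw⟩ := sqRel_spec (S.ix a) (S.ix_lt a)
    have h := prodw_gq C _ hr
    rw [hw] at h
    simpa [prodw] using h
  have hpair : ∀ i j, i < S.k → j < S.k → i ≤ j →
      (f (S.en i) * f (S.en j)) ^ coxLabel S.edges (S.en i) (S.en j) = 1 := by
    intro i j hi hj hij
    have := hone ((List.replicate (coxLabel S.edges (S.en i) (S.en j)) [i, j]).flatten) (by
      rw [S.words_eq]; exact List.mem_append_left _ (mem_coxWords.mpr ⟨i, j, hi, hj, hij, rfl⟩))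
    rw [prodw_replicate] at this
    simpa [prodw] using this
  have hrels : ∀ r ∈ coxRelators S.edges ∪ {r | r ∈ S.extra}, FreeGroup.lift f r = 1 := by
    rintro r (⟨a, -, b, -, rfl⟩ | hr)
    · rw [map_pow, map_mul, FreeGroup.lift_apply_of, FreeGroup.lift_apply_of]
      rcases le_total (S.ix a) (S.ix b) with h | h
      · have := hpair _ _ (S.ix_lt a) (S.ix_lt b) h
        rwa [S.en_ix, S.en_ix] at this
      · have := hpair _ _ (S.ix_lt b) (S.ix_lt a) h
        rw [S.en_ix, S.en_ix, coxLabel_symm] at this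
        have h' : f a * f b = (f b * f a)⁻¹ := by
          rw [mul_inv_rev, inv_eq_of_mul_eq_one_right (hsq a), inv_eq_of_mul_eq_one_right (hsq b)]
        rw [h', inv_pow, this, inv_one]
    · have hm : FreeGroup.lift f r ∈ S.extra.map (FreeGroup.lift f) := List.mem_map_of_mem hr
      rw [S.exW_eq _ f hsq] at hm
      obtain ⟨w, hw, hw'⟩ := List.mem_map.mp hm
      rw [← hw']
      exact hone w (by rw [S.words_eq]; exact List.mem_append_right _ hw)
  refine ⟨PresentedGroup.toGroup hrels, fun x hx => ?_⟩
  rw [CosetEnum.Setup.g, PresentedGroup.toGroup.of]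
  exact hf x hx

/-- A generator is not central. -/
theorem gc_zero_notMem : gc C 0 ∉ center6 C := by
  intro h
  haveI : Finite (cover C) := inferInstance
  obtain ⟨c, hc⟩ := mem_powers_iff_mem_zpowers.mpr h
  have h1 : (gp C 0)⁻¹ = (shiftPerm c)⁻¹ := by
    rw [← xi_pow C c, show xi C ^ c = gc C 0 from hc]
    rfl
  have h2 := congrArg (fun g : Equiv.Perm (Fin 196560) => (g (0 : Fin 196560)).val) h1
  simp only [gp_inv_apply C 0 (by norm_num)] at h2
  have h3 : cstep 0 0 = shift (5 * c) 0 := h2
  have h4 : cstep 0 0 / 6 ≠ 0 := by decide +kernel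
  rw [h3] at h4
  unfold shift at h4
  omega

/-- The cover maps onto the presented group with kernel the central subgroup. -/
theorem exists_tau : ∃ τ : cover C →* CosetEnum.Suz.setup.Grp, Function.Surjective τ ∧
    τ.ker = center6 C ∧ ∀ x < 7, τ (gc C x) = CosetEnum.Suz.setup.g x := by
  obtain ⟨ψ, hψ⟩ := exists_psi C
  have hsurj : Function.Surjective ψ := by
    rw [← MonoidHom.range_eq_top, eq_top_iff]
    have h := congrArg (Subgroup.map (QuotientGroup.mk' (center6 C))) (closure_gc C)
    rw [MonoidHom.map_closure, Subgroup.map_top_of_surjective _ (QuotientGroup.mk'_surjective _),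
      ← Set.range_comp] at h
    rw [← h, Subgroup.closure_le]
    rintro _ ⟨x, rfl⟩
    exact ⟨_, hψ x x.isLt⟩
  haveI : IsSimpleGroup CosetEnum.Suz.setup.Grp := CosetEnum.Suz.isSimpleGroup_Suz
  have hinj : Function.Injective ψ := by
    rw [← MonoidHom.ker_eq_bot_iff]
    refine (IsSimpleGroup.eq_bot_or_eq_top_of_normal ψ.ker inferInstance).resolve_right fun h => ?_
    refine gc_zero_notMem C ((QuotientGroup.eq_one_iff _).mp ?_)
    show gq C 0 = 1
    rw [← hψ 0 (by norm_num), (MonoidHom.ker_eq_top_iff.mp h), MonoidHom.one_apply]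
  let e := MulEquiv.ofBijective ψ ⟨hinj, hsurj⟩
  refine ⟨e.symm.toMonoidHom.comp (QuotientGroup.mk' (center6 C)),
    e.symm.surjective.comp (QuotientGroup.mk'_surjective _), ?_, fun x hx => ?_⟩
  · ext a
    rw [MonoidHom.mem_ker, MonoidHom.comp_apply, MulEquiv.coe_toMonoidHom,
      MulEquiv.map_eq_one_iff, QuotientGroup.mk'_apply, QuotientGroup.eq_one_iff]
  · show e.symm (gq C x) = _
    rw [MulEquiv.symm_apply_eq]
    exact (hψ x hx).symm

theorem card_center6 : Nat.card (center6 C) = 6 := by
  rw [center6, Nat.card_zpowers, orderOf_xi]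

theorem card_cover : Nat.card (cover C) = 6 * 448345497600 := by
  obtain ⟨τ, hs, hk, -⟩ := exists_tau C
  have h : Nat.card (cover C ⧸ τ.ker) = 448345497600 := by
    rw [Nat.card_congr (QuotientGroup.quotientKerEquivOfSurjective τ hs).toEquiv]
    exact CosetEnum.Suz.card_Suz
  rw [Subgroup.card_eq_card_quotient_mul_card_subgroup τ.ker, h, hk, card_center6, Nat.mul_comm]

/-- The relators in an abelian group kill the central element. -/
theorem u_eq_zero {A : Type} [AddCommGroup A] (a : ℕ → A) (u : A)
    (h : ∀ r < 33, ((CosetEnum.Suz.words.getD r []).map a).sum + relShift.getD r 0 • u = 0)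
    (h6 : 6 • u = 0) : u = 0 := by
  have h1 := h 1 (by norm_num)
  have h4 := h 4 (by norm_num)
  have h5 := h 5 (by norm_num)
  have h6' := h 6 (by norm_num)
  have h7 := h 7 (by norm_num)
  have h9 := h 9 (by norm_num)
  have h11 := h 11 (by norm_num)
  have h12 := h 12 (by norm_num)
  have h13 := h 13 (by norm_num)
  have h28 := h 28 (by norm_num)
  have h31 := h 31 (by norm_num)
  have h32 := h 32 (by norm_num)
  simp [CosetEnum.Suz.words, relShift] at h1 h4 h5 h6' h7 h9 h11 h12 h13 h28 h31 h32
  linear_combination (norm := module) (54 : ℤ) • h1 + (75 : ℤ) • h4 - (4 : ℤ) • h5 -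
    (4 : ℤ) • h6' - (1316 : ℤ) • h7 + (1558 : ℤ) • h9 - (4 : ℤ) • h11 - (4 : ℤ) • h12 +
    (1558 : ℤ) • h13 - (404 : ℤ) • h28 + (4 : ℤ) • h31 - (50 : ℤ) • h32 - (819 : ℤ) • h6

/-- The cover is perfect. -/
theorem isPerfect_cover : Group.IsPerfect (cover C) := by
  obtain ⟨τ, hs, hk, -⟩ := exists_tau C
  let q : cover C →* Abelianization (cover C) := Abelianization.of
  have hu : q (xi C) = 1 := by
    have h := u_eq_zero (fun x => Additive.ofMul (q (gc C x))) (Additive.ofMul (q (xi C)))
      (fun r hr => by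
        have e := congrArg q (prodw_gc C r hr)
        rw [map_mul, map_pow, map_one, prodw, map_list_prod, List.map_map] at e
        rw [← ofMul_pow, show (fun x => Additive.ofMul (q (gc C x))) =
          Additive.ofMul ∘ (q ∘ gc C) from rfl, ← List.map_map, ← ofMul_list_prod, ← ofMul_mul, e]
        rfl)
      (by
        rw [← ofMul_pow, ← map_pow, ← orderOf_xi C, pow_orderOf_eq_one, map_one]
        rfl)
    exact h
  rw [Group.isPerfect_def, eq_top_iff]
  haveI : IsSimpleGroup CosetEnum.Suz.setup.Grp := CosetEnum.Suz.isSimpleGroup_Suz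
  have hG : commutator CosetEnum.Suz.setup.Grp = ⊤ := by
    refine (IsSimpleGroup.eq_bot_or_eq_top_of_normal _ inferInstance).resolve_left fun h => ?_
    haveI hc : IsMulCommutative CosetEnum.Suz.setup.Grp := ⟨⟨fun a b => by
      rw [← commutatorElement_eq_one_iff_mul_comm, ← Subgroup.mem_bot, ← h, commutator_def]
      exact Subgroup.commutator_mem_commutator (Subgroup.mem_top a) (Subgroup.mem_top b)⟩⟩
    letI : CommGroup CosetEnum.Suz.setup.Grp :=
      { (inferInstance : Group CosetEnum.Suz.setup.Grp) with mul_comm := hc.is_comm.comm }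
    have hp := IsSimpleGroup.prime_card (α := CosetEnum.Suz.setup.Grp)
    rw [show Nat.card CosetEnum.Suz.setup.Grp = 448345497600 from CosetEnum.Suz.card_Suz] at hp
    exact absurd hp (by norm_num)
  intro a _
  have hm : (commutator (cover C)).map τ = ⊤ := by
    rw [commutator_def, Subgroup.map_commutator, Subgroup.map_top_of_surjective _ hs,
      ← commutator_def, hG]
  obtain ⟨b, hb, eb⟩ := hm.ge (Subgroup.mem_top (τ a))
  have hxi : center6 C ≤ commutator (cover C) := by
    rw [center6, Subgroup.zpowers_le, ← Abelianization.ker_of, MonoidHom.mem_ker]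
    exact hu
  have : b⁻¹ * a ∈ τ.ker := by rw [MonoidHom.mem_ker, map_mul, map_inv, eb, inv_mul_cancel]
  rw [← mul_inv_cancel_left b a]
  exact mul_mem hb (hxi (hk ▸ this))

end CfsgLib.SporadicMult.Suz
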