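import Cfsg.Agent.Schur.PermCertSep
import Cfsg.Agent.SporadicMult.SuzCoverMap
import Cfsg.Agent.SporadicMult.SuzCertChecks
import Cfsg.Agent.CosetEnum.SuzOrder.Lower

/-!
The sixfold cover of the sporadic Suzuki group as a based group on 1782 + 196560 points.
-/

set_option autoImplicit false
set_option linter.style.haveILetI false
set_option maxRecDepth 10000

namespace CfsgLib.SporadicMult.Suz

open CfsgLib.CosetEnum CfsgLib.Schur.PermCert


theorem base_lt : ∀ b ∈ base, b < 198342 := by decide

/-- The point stabiliser of the first four points in the image is trivial. -/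
theorem fix_eq_bot (φ : CosetEnum.Suz.setup.Grp →* Equiv.Perm (Fin SuzH.enum.n))
    (hφ : ∀ (w : List ℕ), (∀ x ∈ w, x < CosetEnum.Suz.setup.k) → ∀ i : Fin SuzH.enum.n,
      ((φ (prodw CosetEnum.Suz.setup.g w))⁻¹ i).val = walk SuzH.enum.tb w i)
    [Finite CosetEnum.Suz.setup.Grp] (hcard : Nat.card CosetEnum.Suz.setup.Grp = 448345497600) :
    fixK φ [380, 2, 1, 0] = ⊥ := by
  have h := SuzH.level0 φ hφ _ (SuzH.level1 φ hφ _ (SuzH.level2 φ hφ _
    (SuzH.level3 φ hφ _ (le_refl (Nat.card (fixK φ [380, 2, 1, 0]))))))
  have h2 : Nat.card (fixK φ []) ≤ 448345497600 := by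
    have h3 : fixK φ [] ≤ φ.range := fun p hp => hp.1
    exact (Subgroup.card_le_of_le h3).trans
      ((Nat.card_le_card_of_surjective _ φ.rangeRestrict_surjective).trans hcard.le)
  have hpos : 0 < Nat.card (fixK φ [380, 2, 1, 0]) := Nat.card_pos
  exact Subgroup.eq_bot_of_card_eq _ (by omega)

/-- The cover with its action on both sets of points, as a based group. -/
theorem exists_based (C : Checks) : ∃ B : Based (cover C),
    B.N = 198342 ∧ B.tab = tab ∧ B.base = base := by
  haveI := CosetEnum.Suz.finite_grp
  obtain ⟨φ, e, hφ, -, -, hinj, hcard⟩ := CosetEnum.Suz.order_and_action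
  obtain ⟨τ, hτs, hτk, hτg⟩ := exists_tau C
  refine ⟨{
    N := 198342
    gen := fun x => if x < 7 then gc C x else 1
    tab := tab
    base := base
    img := fun a i => if h : i < 1782 then ((φ (τ a))⁻¹ (⟨i, h⟩ : Fin SuzH.enum.n)).val
      else if h2 : i - 1782 < 196560 then
        1782 + ((a : Equiv.Perm (Fin 196560))⁻¹ ⟨i - 1782, h2⟩).val else i
    img_one := fun i hi => by
      by_cases h : i < 1782
      · simp [h]
      · simp only [dif_neg h, dif_pos (show i - 1782 < 196560 by omega), Subgroup.coe_one, inv_one,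
          Equiv.Perm.one_apply]
        omega
    img_mul := fun a b i hi => by
      by_cases h : i < 1782
      · have h1 : ((φ (τ a))⁻¹ (⟨i, h⟩ : Fin SuzH.enum.n)).val < 1782 :=
          ((φ (τ a))⁻¹ (⟨i, h⟩ : Fin SuzH.enum.n)).isLt
        simp only [dif_pos h, dif_pos h1, map_mul, mul_inv_rev, Equiv.Perm.mul_apply, Fin.eta]
      · have h2 : i - 1782 < 196560 := by omega
        have h3 : ¬ 1782 + ((a : Equiv.Perm (Fin 196560))⁻¹ ⟨i - 1782, h2⟩).val < 1782 := by
          omega
        simp only [dif_neg h, dif_pos h2, dif_neg h3, Nat.add_sub_cancel_left, Fin.is_lt,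
          ↓reduceDIte, Subgroup.coe_mul, mul_inv_rev, Equiv.Perm.mul_apply, Fin.eta]
    img_lt := fun a i hi => by
      by_cases h : i < 1782
      · rw [dif_pos h]
        exact lt_trans ((φ (τ a))⁻¹ (⟨i, h⟩ : Fin SuzH.enum.n)).isLt (by decide)
      · rw [dif_neg h, dif_pos (show i - 1782 < 196560 by omega)]
        omega
    img_gen := fun x i hi => by
      by_cases hx : x < 7
      · rw [if_pos hx, tab, show Nat.blt x 7 = true from Nat.ble_eq_true_of_le hx, cond_true]
        by_cases h : i < 1782
        · rw [dif_pos h, show Nat.blt i 1782 = true from Nat.ble_eq_true_of_le h, cond_true,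
            hτg x hx]
          have h' := hφ [x] (fun y hy => by
            rw [List.mem_singleton] at hy; subst hy; exact hx) (⟨i, h⟩ : Fin SuzH.enum.n)
          rw [prodw, List.map_singleton, List.prod_singleton] at h'
          exact h'
        · have hb : Nat.blt i 1782 = false := by
            rw [Bool.eq_false_iff]; exact fun hb => h (Nat.le_of_ble_eq_true hb)
          rw [dif_neg h, dif_pos (show i - 1782 < 196560 by omega), hb, cond_false]
          show 1782 + ((gp C x)⁻¹ _).val = 1782 + cstep x (i - 1782)
          rw [gp_inv_apply C x hx]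
      · have hb : Nat.blt x 7 = false := by
          rw [Bool.eq_false_iff]; exact fun hb => hx (Nat.le_of_ble_eq_true hb)
        rw [if_neg hx, tab, hb, cond_false]
        by_cases h : i < 1782
        · simp [h]
        · simp only [dif_neg h, dif_pos (show i - 1782 < 196560 by omega), Subgroup.coe_one,
            inv_one, Equiv.Perm.one_apply]
          omega
    base_lt := base_lt
    base_ext := fun a b h => by
      have hτ : τ a = τ b := by
        apply hinj
        refine inv_injective ?_
        have hm : ((φ (τ a))⁻¹)⁻¹ * (φ (τ b))⁻¹ ∈ fixK φ [380, 2, 1, 0] := by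
          refine ⟨mul_mem (inv_mem (inv_mem ⟨τ a, rfl⟩)) (inv_mem ⟨τ b, rfl⟩), fun i hi => ?_⟩
          simp only [List.mem_cons, List.not_mem_nil, or_false] at hi
          have hib : i.val ∈ base := by
            simp only [base, List.mem_cons, List.not_mem_nil, or_false]; omega
          have hlt : i.val < 1782 := by omega
          have h1 := h i.val hib
          simp only [dif_pos hlt] at h1
          rw [Equiv.Perm.mul_apply, Equiv.Perm.inv_eq_iff_eq]
          exact (Fin.ext h1).symm
        rw [fix_eq_bot φ hφ hcard, Subgroup.mem_bot, inv_mul_eq_one] at hm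
        exact hm
      have hk : a * b⁻¹ ∈ center6 C := by
        rw [← hτk, MonoidHom.mem_ker, map_mul, map_inv, hτ, mul_inv_cancel]
      obtain ⟨c, hc⟩ := mem_powers_iff_mem_zpowers.mpr hk
      have ha : a = xi C ^ c * b := by
        rw [show xi C ^ c = a * b⁻¹ from hc, inv_mul_cancel_right]
      have h0 := h 1782 (by decide)
      simp only [show ¬ (1782 < 1782) by decide, dite_false, Nat.sub_self,
        show (0 : ℕ) < 196560 by norm_num, dite_true] at h0
      have h0' : (a : Equiv.Perm (Fin 196560))⁻¹ ⟨0, by norm_num⟩ =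
          (b : Equiv.Perm (Fin 196560))⁻¹ ⟨0, by norm_num⟩ := Fin.ext (Nat.add_left_cancel h0)
      rw [ha, Subgroup.coe_mul, xi_pow, mul_inv_rev, Equiv.Perm.mul_apply] at h0'
      have h1 := (b : Equiv.Perm (Fin 196560))⁻¹.injective h0'
      have h2 : shiftPerm c = 1 :=
        shiftPerm_eq_one c _ ((Equiv.Perm.inv_eq_iff_eq.mp h1).symm)
      rw [ha, show xi C ^ c = 1 from Subtype.ext ((xi_pow C c).trans h2), one_mul] },
    rfl, rfl, rfl⟩

end CfsgLib.SporadicMult.Suz
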