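import Cfsg.Agent.SporadicMult.SuzCoverStep

/-! Kernel checks of relators in the sixfold cover of the sporadic Suzuki group (generated). -/

set_option autoImplicit false
set_option Elab.async false
set_option maxRecDepth 100000

namespace CfsgLib.SporadicMult.Suz

open CfsgLib.CosetEnum

theorem rel32_12_0 : allR (okRel 32) 12 0 = true := by decide +kernel

theorem rel32_12_1 : allR (okRel 32) 12 4096 = true := by decide +kernel

theorem rel32_12_2 : allR (okRel 32) 12 8192 = true := by decide +kernel

theorem rel32_12_3 : allR (okRel 32) 12 12288 = true := by decide +kernel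

theorem rel32_12_4 : allR (okRel 32) 12 16384 = true := by decide +kernel

theorem rel32_12_5 : allR (okRel 32) 12 20480 = true := by decide +kernel

theorem rel32_12_6 : allR (okRel 32) 12 24576 = true := by decide +kernel

theorem rel32_12_7 : allR (okRel 32) 12 28672 = true := by decide +kernel

theorem rel32_13_0 : allR (okRel 32) 13 0 = true :=
  allR_join (hi := 4096) rel32_12_0 (by norm_num) rel32_12_1

theorem rel32_13_1 : allR (okRel 32) 13 8192 = true :=
  allR_join (hi := 12288) rel32_12_2 (by norm_num) rel32_12_3

theorem rel32_13_2 : allR (okRel 32) 13 16384 = true :=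
  allR_join (hi := 20480) rel32_12_4 (by norm_num) rel32_12_5

theorem rel32_13_3 : allR (okRel 32) 13 24576 = true :=
  allR_join (hi := 28672) rel32_12_6 (by norm_num) rel32_12_7

theorem rel32_14_0 : allR (okRel 32) 14 0 = true :=
  allR_join (hi := 8192) rel32_13_0 (by norm_num) rel32_13_1

theorem rel32_14_1 : allR (okRel 32) 14 16384 = true :=
  allR_join (hi := 24576) rel32_13_2 (by norm_num) rel32_13_3

theorem rel32_15_0 : allR (okRel 32) 15 0 = true :=
  allR_join (hi := 16384) rel32_14_0 (by norm_num) rel32_14_1

end CfsgLib.SporadicMult.Suz
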