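import Cfsg.Agent.SporadicMult.SuzCoverStep

/-! Kernel checks of relators in the sixfold cover of the sporadic Suzuki group (generated). -/

set_option autoImplicit false
set_option Elab.async false
set_option maxRecDepth 100000

namespace CfsgLib.SporadicMult.Suz

open CfsgLib.CosetEnum

theorem rel2_15_0 : allR (okRel 2) 15 0 = true := by decide +kernel

theorem rel5_15_0 : allR (okRel 5) 15 0 = true := by decide +kernel

theorem rel7_15_0 : allR (okRel 7) 15 0 = true := by decide +kernel

theorem rel10_15_0 : allR (okRel 10) 15 0 = true := by decide +kernel

theorem rel12_15_0 : allR (okRel 12) 15 0 = true := by decide +kernel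

theorem rel17_15_0 : allR (okRel 17) 15 0 = true := by decide +kernel

theorem rel18_15_0 : allR (okRel 18) 15 0 = true := by decide +kernel

theorem rel23_15_0 : allR (okRel 23) 15 0 = true := by decide +kernel

theorem rel26_15_0 : allR (okRel 26) 15 0 = true := by decide +kernel

theorem rel27_15_0 : allR (okRel 27) 15 0 = true := by decide +kernel

theorem rel30_14_0 : allR (okRel 30) 14 0 = true := by decide +kernel

theorem rel30_14_1 : allR (okRel 30) 14 16384 = true := by decide +kernel

theorem rel30_15_0 : allR (okRel 30) 15 0 = true :=
  allR_join (hi := 16384) rel30_14_0 (by norm_num) rel30_14_1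

end CfsgLib.SporadicMult.Suz
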