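import Cfsg.Agent.SporadicMult.SuzCoverStep

/-! Kernel checks of relators in the sixfold cover of the sporadic Suzuki group (generated). -/

set_option autoImplicit false
set_option Elab.async false
set_option maxRecDepth 100000

namespace CfsgLib.SporadicMult.Suz

open CfsgLib.CosetEnum

theorem rel0_15_0 : allR (okRel 0) 15 0 = true := by decide +kernel

theorem rel4_15_0 : allR (okRel 4) 15 0 = true := by decide +kernel

theorem rel8_15_0 : allR (okRel 8) 15 0 = true := by decide +kernel

theorem rel9_15_0 : allR (okRel 9) 15 0 = true := by decide +kernel

theorem rel13_15_0 : allR (okRel 13) 15 0 = true := by decide +kernel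

theorem rel14_14_0 : allR (okRel 14) 14 0 = true := by decide +kernel

theorem rel14_14_1 : allR (okRel 14) 14 16384 = true := by decide +kernel

theorem rel14_15_0 : allR (okRel 14) 15 0 = true :=
  allR_join (hi := 16384) rel14_14_0 (by norm_num) rel14_14_1

theorem rel16_15_0 : allR (okRel 16) 15 0 = true := by decide +kernel

theorem rel19_15_0 : allR (okRel 19) 15 0 = true := by decide +kernel

theorem rel21_15_0 : allR (okRel 21) 15 0 = true := by decide +kernel

theorem rel25_15_0 : allR (okRel 25) 15 0 = true := by decide +kernel

theorem rel28_15_0 : allR (okRel 28) 15 0 = true := by decide +kernel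

end CfsgLib.SporadicMult.Suz
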