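import Cfsg.Agent.SporadicMult.SuzCoverStep

/-! Kernel checks of relators in the sixfold cover of the sporadic Suzuki group (generated). -/

set_option autoImplicit false
set_option Elab.async false
set_option maxRecDepth 100000

namespace CfsgLib.SporadicMult.Suz

open CfsgLib.CosetEnum

theorem rel1_15_0 : allR (okRel 1) 15 0 = true := by decide +kernel

theorem rel3_15_0 : allR (okRel 3) 15 0 = true := by decide +kernel

theorem rel6_15_0 : allR (okRel 6) 15 0 = true := by decide +kernel

theorem rel11_15_0 : allR (okRel 11) 15 0 = true := by decide +kernel

theorem rel15_15_0 : allR (okRel 15) 15 0 = true := by decide +kernel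

theorem rel20_15_0 : allR (okRel 20) 15 0 = true := by decide +kernel

theorem rel22_15_0 : allR (okRel 22) 15 0 = true := by decide +kernel

theorem rel24_15_0 : allR (okRel 24) 15 0 = true := by decide +kernel

theorem rel29_15_0 : allR (okRel 29) 15 0 = true := by decide +kernel

theorem rel31_14_0 : allR (okRel 31) 14 0 = true := by decide +kernel

theorem rel31_14_1 : allR (okRel 31) 14 16384 = true := by decide +kernel

theorem rel31_15_0 : allR (okRel 31) 15 0 = true :=
  allR_join (hi := 16384) rel31_14_0 (by norm_num) rel31_14_1

theorem step0 : allR (okStep 0) 15 0 = true := by decide +kernel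

theorem step1 : allR (okStep 1) 15 0 = true := by decide +kernel

theorem step2 : allR (okStep 2) 15 0 = true := by decide +kernel

theorem step3 : allR (okStep 3) 15 0 = true := by decide +kernel

theorem step4 : allR (okStep 4) 15 0 = true := by decide +kernel

theorem step5 : allR (okStep 5) 15 0 = true := by decide +kernel

theorem step6 : allR (okStep 6) 15 0 = true := by decide +kernel

end CfsgLib.SporadicMult.Suz
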