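import Cfsg.Agent.SporadicMult.SuzCoverGroup
import Cfsg.Agent.SporadicMult.SuzRel0
import Cfsg.Agent.SporadicMult.SuzRel1
import Cfsg.Agent.SporadicMult.SuzRel2
import Cfsg.Agent.SporadicMult.SuzRel3

/-! The tables of the sixfold cover pass all checks. -/

set_option autoImplicit false

namespace CfsgLib.SporadicMult.Suz

theorem checks : Checks where
  rel r hr := by
    interval_cases r
    exacts [rel0_15_0, rel1_15_0, rel2_15_0, rel3_15_0, rel4_15_0, rel5_15_0, rel6_15_0, rel7_15_0,
      rel8_15_0, rel9_15_0, rel10_15_0, rel11_15_0, rel12_15_0, rel13_15_0, rel14_15_0, rel15_15_0,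
      rel16_15_0, rel17_15_0, rel18_15_0, rel19_15_0, rel20_15_0, rel21_15_0, rel22_15_0,
      rel23_15_0, rel24_15_0, rel25_15_0, rel26_15_0, rel27_15_0, rel28_15_0, rel29_15_0,
      rel30_15_0, rel31_15_0, rel32_15_0]
  step x hx := by
    interval_cases x
    exacts [step0, step1, step2, step3, step4, step5, step6]

end CfsgLib.SporadicMult.Suz
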