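import Cfsg.Agent.Schur.CoverBound
import Cfsg.Agent.SporadicMult.SuzBased
import Cfsg.Agent.SporadicMult.SuzChecks

/-!
The Schur multiplier of the sporadic Suzuki group is cyclic of order six.
-/

set_option autoImplicit false
set_option linter.style.haveILetI false
set_option maxRecDepth 10000

namespace CfsgLib.SporadicMult.Suz

open CfsgLib.CosetEnum CfsgLib.Schur.PermCert

/-- The sixfold cover has no nontrivial stem extension. -/
theorem cover_ker_eq_bot (Γ : Type) [Group Γ] [Finite Γ] (σ : Γ →* cover checks)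
    (hσ : Cfsg.IsStemExtension σ) : σ.ker = ⊥ := by
  obtain ⟨B, hN, htab, hbase⟩ := exists_based checks
  have hc : Nat.card (cover checks) = 6 * 448345497600 := card_cover checks
  have h1 := Schur.hasCyclicSchurMultiplier_one (cover checks) ?_
  · obtain ⟨π, hπ⟩ := h1.2 Γ σ hσ
    rw [eq_bot_iff]
    intro z hz
    obtain ⟨a, ha⟩ := hπ ⟨z, hz⟩
    rw [Subsingleton.elim a 1, map_one] at ha
    rw [Subgroup.mem_bot]
    exact (congrArg Subtype.val ha).symm
  intro p hp hd Δ _ _ ρ hρ hexp
  rw [hc, show (6 * 448345497600 : ℕ) = 2 ^ 14 * (3 ^ 8 * (5 ^ 2 * (7 * (11 * 13)))) by norm_num]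
    at hd
  simp only [hp.dvd_mul] at hd
  rcases hd with h | h | h | h | h | h
  · obtain rfl := (Nat.prime_dvd_prime_iff_eq hp Nat.prime_two).1 (hp.dvd_of_dvd_pow h)
    exact TwoData.ker_eq_bot B ρ hρ data2 (by rw [htab, hN, hbase]; exact ok2) eqs2 lin2
      (m := 164189025) (by rw [hc]; decide +kernel) (by norm_num) hexp
  · obtain rfl := (Nat.prime_dvd_prime_iff_eq hp Nat.prime_three).1 (hp.dvd_of_dvd_pow h)
    exact odd_sep_ker_eq_bot B ρ hρ cert3 words3 fusWords3 sep3
      (by rw [htab, hN, hbase]; exact ok3) check3 Nat.prime_three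
      (m := 410009600) (by rw [hc]; decide +kernel) (show ¬ 3 ∣ _ by norm_num) hexp
  · obtain rfl := (Nat.prime_dvd_prime_iff_eq hp Nat.prime_five).1 (hp.dvd_of_dvd_pow h)
    exact odd_sep_ker_eq_bot B ρ hρ cert5 words5 fusWords5 sep5
      (by rw [htab, hN, hbase]; exact ok5) check5 Nat.prime_five
      (m := 107602919424) (by rw [hc]; decide +kernel) (show ¬ 5 ∣ _ by norm_num) hexp
  · obtain rfl := (Nat.prime_dvd_prime_iff_eq hp (by norm_num)).1 h
    exact prime_ker_eq_bot B ρ hρ 7 word7 moved7 (by rw [htab, hN, hbase]; exact ok7)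
      (by norm_num) (m := 384296140800) (by rw [hc]) (by norm_num) hexp
  · obtain rfl := (Nat.prime_dvd_prime_iff_eq hp (by norm_num)).1 h
    exact prime_ker_eq_bot B ρ hρ 11 word11 moved11 (by rw [htab, hN, hbase]; exact ok11)
      (by norm_num) (m := 244552089600) (by rw [hc]) (by norm_num) hexp
  · obtain rfl := (Nat.prime_dvd_prime_iff_eq hp (by norm_num)).1 h
    exact prime_ker_eq_bot B ρ hρ 13 word13 moved13 (by rw [htab, hN, hbase]; exact ok13)
      (by norm_num) (m := 206928691200) (by rw [hc]) (by norm_num) hexp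

/-- The multiplier of the sporadic Suzuki group is cyclic of order six. -/
theorem multiplier : Cfsg.HasCyclicSchurMultiplier Cfsg.Spor.Suz 6 := by
  obtain ⟨τ, hs, hk, -⟩ := exists_tau checks
  have hperf : commutator (cover checks) = ⊤ := Group.isPerfect_def.mp (isPerfect_cover checks)
  have hcyc : IsCyclic τ.ker := by
    rw [hk]
    exact inferInstanceAs (IsCyclic (Subgroup.zpowers (xi checks)))
  have hcard : Nat.card τ.ker = 6 := by rw [hk]; exact card_center6 checks
  have hcen : τ.ker ≤ Subgroup.center (cover checks) := by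
    rw [hk]
    exact Subgroup.zpowers_le.mpr (xi_central checks)
  let e6 : Multiplicative (ZMod 6) ≃* τ.ker :=
    mulEquivOfCyclicCardEq (by rw [hcard, Nat.card_congr Multiplicative.toAdd, Nat.card_zmod])
  refine ⟨⟨cover checks, inferInstance, inferInstance, τ, ⟨hs, hcen, ?_⟩, ⟨e6.symm⟩⟩, ?_⟩
  · rw [hperf]; exact le_top
  intro Γ _ _ σ hσ
  have hG : Group.IsPerfect Cfsg.Spor.Suz := by
    rw [Group.isPerfect_def, eq_top_iff]
    intro g _
    obtain ⟨a, rfl⟩ := hs g
    have h : τ a ∈ (commutator (cover checks)).map τ :=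
      Subgroup.mem_map_of_mem τ (by rw [hperf]; exact Subgroup.mem_top a)
    rw [commutator_def, Subgroup.map_commutator] at h
    exact Subgroup.commutator_mono le_top le_top h
  let ec : commutator (cover checks) ≃* cover checks :=
    (MulEquiv.subgroupCongr hperf).trans Subgroup.topEquiv
  have hno : ∀ (Δ : Type) [Group Δ] [Finite Δ] (ρ : Δ →* commutator (cover checks)),
      Cfsg.IsStemExtension ρ → ρ.ker = ⊥ := by
    intro Δ _ _ ρ hρ
    have hk' : (ec.toMonoidHom.comp ρ).ker = ρ.ker := by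
      ext x
      rw [MonoidHom.mem_ker, MonoidHom.comp_apply, MulEquiv.coe_toMonoidHom,
        MulEquiv.map_eq_one_iff, MonoidHom.mem_ker]
    rw [← hk']
    exact cover_ker_eq_bot Δ _ ⟨ec.surjective.comp hρ.1, hk' ▸ hρ.2.1, hk' ▸ hρ.2.2⟩
  obtain ⟨π, hπ⟩ := Schur.exists_ker_surjective τ hs hcen hG hno σ hσ
  let d : τ.ker →* (τ.comp (commutator (cover checks)).subtype).ker :=
    { toFun := fun z => ⟨⟨z.1, by rw [hperf]; exact Subgroup.mem_top _⟩, z.2⟩
      map_one' := rfl
      map_mul' := fun _ _ => rfl }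
  refine ⟨π.comp (d.comp e6.toMonoidHom), hπ.comp ?_⟩
  rintro ⟨⟨z, hz⟩, hz'⟩
  refine ⟨e6.symm ⟨z, hz'⟩, ?_⟩
  show d (e6 (e6.symm ⟨z, hz'⟩)) = _
  rw [e6.apply_symm_apply]
  rfl

end CfsgLib.SporadicMult.Suz
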