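import Cfsg.Agent.Schur.PermCert
import Cfsg.Agent.SporadicMult.HeData
import Cfsg.Agent.CosetEnum.HeOrder.Order

/-!
The Schur multiplier of the Held group is trivial.
-/

set_option autoImplicit false
set_option Elab.async false
set_option maxRecDepth 100000
set_option linter.style.haveILetI false

namespace CfsgLib.SporadicMult.He

open CfsgLib.CosetEnum CfsgLib.Schur.PermCert

/-- The tables of the generators, by their numbers. -/
noncomputable def tab (x i : ℕ) : ℕ :=
  bif Nat.blt x 7 then T HeH.enum.tb x i else i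

/-- Four base points. -/
def base : List ℕ := [0, 1, 180, 1654]

theorem base_lt : ∀ b ∈ base, b < 2058 := by decide

/-- The point stabiliser of the base in the image is trivial. -/
theorem fix_base_eq_one (φ : CosetEnum.He.setup.Grp →* Equiv.Perm (Fin HeH.enum.n))
    (hφ : ∀ (w : List ℕ), (∀ x ∈ w, x < CosetEnum.He.setup.k) → ∀ i : Fin HeH.enum.n,
      ((φ (prodw CosetEnum.He.setup.g w))⁻¹ i).val = walk HeH.enum.tb w i)
    [Finite CosetEnum.He.setup.Grp] (hcard : Nat.card CosetEnum.He.setup.Grp = 4030387200) :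
    fixK φ [1654, 180, 1, 0] = ⊥ := by
  have h := HeH.level0 φ hφ _ (HeH.level1 φ hφ _ (HeH.level2 φ hφ _
    (HeH.level3 φ hφ _ (le_refl (Nat.card (fixK φ [1654, 180, 1, 0]))))))
  have h2 : Nat.card (fixK φ []) ≤ 4030387200 := by
    have h3 : fixK φ [] ≤ φ.range := fun p hp => hp.1
    exact (Subgroup.card_le_of_le h3).trans
      ((Nat.card_le_card_of_surjective _ φ.rangeRestrict_surjective).trans hcard.le)
  have hpos : 0 < Nat.card (fixK φ [1654, 180, 1, 0]) := Nat.card_pos
  exact Subgroup.eq_bot_of_card_eq _ (by omega)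

/-- The Held group with its action on 2058 points, as a based group. -/
theorem exists_based : ∃ B : Based CosetEnum.He.setup.Grp,
    B.N = 2058 ∧ B.tab = tab ∧ B.base = base := by
  haveI := CosetEnum.He.finite_grp
  obtain ⟨φ, e, hφ, -, -, hinj, hcard⟩ := CosetEnum.He.order_and_action
  refine ⟨{
    N := 2058
    gen := fun x => if x < 7 then CosetEnum.He.setup.g x else 1
    tab := tab
    base := base
    img := fun a i => if h : i < 2058 then ((φ a)⁻¹ (⟨i, h⟩ : Fin HeH.enum.n)).val else i
    img_one := fun i hi => by simp [hi]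
    img_mul := fun a b i hi => by
      have h1 : ((φ a)⁻¹ (⟨i, hi⟩ : Fin HeH.enum.n)).val < 2058 :=
        ((φ a)⁻¹ (⟨i, hi⟩ : Fin HeH.enum.n)).isLt
      simp only [dif_pos hi, dif_pos h1, map_mul, mul_inv_rev, Equiv.Perm.mul_apply, Fin.eta]
    img_lt := fun a i hi => by
      rw [dif_pos hi]; exact ((φ a)⁻¹ (⟨i, hi⟩ : Fin HeH.enum.n)).isLt
    img_gen := fun x i hi => by
      rw [dif_pos hi]
      by_cases hx : x < 7
      · have h := hφ [x] (fun y hy => by
          rw [List.mem_singleton] at hy; subst hy; exact hx) (⟨i, hi⟩ : Fin HeH.enum.n)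
        rw [prodw, List.map_singleton, List.prod_singleton] at h
        rw [if_pos hx, tab, show Nat.blt x 7 = true from Nat.ble_eq_true_of_le hx, cond_true]
        exact h
      · rw [if_neg hx, map_one, inv_one, Equiv.Perm.one_apply, tab]
        have hb : Nat.blt x 7 = false := by
          rw [Bool.eq_false_iff]; exact fun hb => hx (Nat.le_of_ble_eq_true hb)
        rw [hb, cond_false]
    base_lt := base_lt
    base_ext := fun a b h => by
      apply hinj
      have key : (φ a)⁻¹ = (φ b)⁻¹ := by
        have hm : ((φ a)⁻¹)⁻¹ * (φ b)⁻¹ ∈ fixK φ [1654, 180, 1, 0] := by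
          refine ⟨mul_mem (inv_mem (inv_mem ⟨a, rfl⟩)) (inv_mem ⟨b, rfl⟩), fun i hi => ?_⟩
          have hib : i.val ∈ base := by
            simp only [base, List.mem_cons, List.not_mem_nil, or_false] at hi ⊢; omega
          have h1 := h i.val hib
          simp only [dif_pos (base_lt _ hib)] at h1
          rw [Equiv.Perm.mul_apply, Equiv.Perm.inv_eq_iff_eq]
          exact (Fin.ext h1).symm
        rw [fix_base_eq_one φ hφ hcard, Subgroup.mem_bot, inv_mul_eq_one] at hm
        exact hm
      exact inv_injective key }, rfl, rfl, rfl⟩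

theorem ok2 : data2.ok tab 2058 base = true := by decide +kernel

theorem eqs2 : data2.cert.eqsCheck = true := by decide +kernel

theorem lin2 : data2.cert.linCheck = true := by decide +kernel

theorem ok3 : oddOk cert3 words3 fusWords3 sepPt3 keys3 tab 2058 base = true := by decide +kernel

theorem check3 : cert3.check = true := by decide +kernel

theorem ok5 : oddOk cert5 words5 fusWords5 sepPt5 keys5 tab 2058 base = true := by decide +kernel

theorem check5 : cert5.check = true := by decide +kernel

theorem ok7 : oddOk cert7 words7 fusWords7 sepPt7 keys7 tab 2058 base = true := by decide +kernel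

theorem check7 : cert7.check = true := by decide +kernel

theorem ok17 : primeOk 17 word17 moved17 tab 2058 base = true := by decide +kernel

/-- The multiplier of the Held group is trivial. -/
theorem trivial_multiplier : Cfsg.HasCyclicSchurMultiplier Cfsg.Spor.He 1 := by
  haveI hfin : Finite Cfsg.Spor.He := CosetEnum.He.finite_grp
  refine Schur.hasCyclicSchurMultiplier_one _ fun p hp hd Γ _ _ σ hσ hexp => ?_
  obtain ⟨B, hN, htab, hbase⟩ := exists_based
  haveI : Finite CosetEnum.He.setup.Grp := CosetEnum.He.finite_grp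
  have hc : Nat.card CosetEnum.He.setup.Grp = 4030387200 := CosetEnum.He.card_He
  rw [CosetEnum.He.card_He,
    show (4030387200 : ℕ) = 2 ^ 10 * (3 ^ 3 * (5 ^ 2 * (7 ^ 3 * 17))) by norm_num] at hd
  simp only [hp.dvd_mul] at hd
  rcases hd with h | h | h | h | h
  · obtain rfl := (Nat.prime_dvd_prime_iff_eq hp Nat.prime_two).1 (hp.dvd_of_dvd_pow h)
    exact TwoData.ker_eq_bot B σ hσ data2 (by rw [htab, hN, hbase]; exact ok2) eqs2 lin2
      (m := 3935925) (by rw [hc]; decide +kernel) (by norm_num) hexp
  · obtain rfl := (Nat.prime_dvd_prime_iff_eq hp Nat.prime_three).1 (hp.dvd_of_dvd_pow h)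
    exact odd_ker_eq_bot B σ hσ cert3 words3 fusWords3 sepPt3 keys3
      (by rw [htab, hN, hbase]; exact ok3) check3 Nat.prime_three
      (m := 149273600) (by rw [hc]; decide +kernel) (show ¬ 3 ∣ _ by norm_num) hexp
  · obtain rfl := (Nat.prime_dvd_prime_iff_eq hp Nat.prime_five).1 (hp.dvd_of_dvd_pow h)
    exact odd_ker_eq_bot B σ hσ cert5 words5 fusWords5 sepPt5 keys5
      (by rw [htab, hN, hbase]; exact ok5) check5 Nat.prime_five
      (m := 161215488) (by rw [hc]; decide +kernel) (show ¬ 5 ∣ _ by norm_num) hexp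
  · obtain rfl := (Nat.prime_dvd_prime_iff_eq hp (by norm_num)).1 (hp.dvd_of_dvd_pow h)
    exact odd_ker_eq_bot B σ hσ cert7 words7 fusWords7 sepPt7 keys7
      (by rw [htab, hN, hbase]; exact ok7) check7 (show Nat.Prime 7 by norm_num)
      (m := 11750400) (by rw [hc]; decide +kernel) (show ¬ 7 ∣ _ by norm_num) hexp
  · obtain rfl := (Nat.prime_dvd_prime_iff_eq hp (by norm_num)).1 h
    exact prime_ker_eq_bot B σ hσ 17 word17 moved17 (by rw [htab, hN, hbase]; exact ok17)
      (by norm_num) (m := 237081600) (by rw [hc]) (by norm_num) hexp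

end CfsgLib.SporadicMult.He
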