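import Cfsg.Agent.SporadicMult.SuzData

/-! The certificate for the prime 3, checked one equation at a time to bound the memory of the check. -/

set_option autoImplicit false
set_option Elab.async false
set_option maxRecDepth 100000

namespace CfsgLib.SporadicMult.Suz

open CfsgLib.Schur.Pc

/-- Equation `i` of the certificate is as recorded. -/
def eqOk3 (i : ℕ) : Bool :=
  cert3.equations.getD i ([], []) == cert3.eqs.getD i ([], [])

theorem eq3_0 : eqOk3 0 = true := by decide +kernel

theorem eq3_1 : eqOk3 1 = true := by decide +kernel

theorem eq3_2 : eqOk3 2 = true := by decide +kernel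

theorem eq3_3 : eqOk3 3 = true := by decide +kernel

theorem eq3_4 : eqOk3 4 = true := by decide +kernel

theorem eq3_5 : eqOk3 5 = true := by decide +kernel

theorem eq3_6 : eqOk3 6 = true := by decide +kernel

theorem eq3_7 : eqOk3 7 = true := by decide +kernel

theorem eq3_8 : eqOk3 8 = true := by decide +kernel

theorem eq3_9 : eqOk3 9 = true := by decide +kernel

theorem eq3_10 : eqOk3 10 = true := by decide +kernel

theorem eq3_11 : eqOk3 11 = true := by decide +kernel

theorem eq3_12 : eqOk3 12 = true := by decide +kernel

theorem eq3_13 : eqOk3 13 = true := by decide +kernel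

theorem eq3_14 : eqOk3 14 = true := by decide +kernel

theorem eq3_15 : eqOk3 15 = true := by decide +kernel

theorem eq3_16 : eqOk3 16 = true := by decide +kernel

theorem eq3_17 : eqOk3 17 = true := by decide +kernel

theorem eq3_18 : eqOk3 18 = true := by decide +kernel

theorem eq3_19 : eqOk3 19 = true := by decide +kernel

theorem eq3_20 : eqOk3 20 = true := by decide +kernel

theorem eq3_21 : eqOk3 21 = true := by decide +kernel

theorem eq3_22 : eqOk3 22 = true := by decide +kernel

theorem eq3_23 : eqOk3 23 = true := by decide +kernel

theorem eq3_24 : eqOk3 24 = true := by decide +kernel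

theorem eq3_25 : eqOk3 25 = true := by decide +kernel

theorem eq3_26 : eqOk3 26 = true := by decide +kernel

theorem eq3_27 : eqOk3 27 = true := by decide +kernel

theorem eq3_28 : eqOk3 28 = true := by decide +kernel

theorem eq3_29 : eqOk3 29 = true := by decide +kernel

theorem eq3_30 : eqOk3 30 = true := by decide +kernel

theorem len3 : cert3.equations.length = 31 ∧ cert3.eqs.length = 31 := ⟨rfl, rfl⟩

theorem shaped3 : shaped cert3.p cert3.n cert3.rules = true := by decide +kernel

/-- Rule `r` is exact after correction. -/
def ruleOk3 (r : ℕ) : Bool := cert3.ruleCheck r (cert3.rules.getD r ([], []))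

theorem rule3_0 : ruleOk3 0 = true := by decide +kernel

theorem rule3_1 : ruleOk3 1 = true := by decide +kernel

theorem rule3_2 : ruleOk3 2 = true := by decide +kernel

theorem rule3_3 : ruleOk3 3 = true := by decide +kernel

theorem rule3_4 : ruleOk3 4 = true := by decide +kernel

theorem rule3_5 : ruleOk3 5 = true := by decide +kernel

theorem rule3_6 : ruleOk3 6 = true := by decide +kernel

theorem rule3_7 : ruleOk3 7 = true := by decide +kernel

theorem rule3_8 : ruleOk3 8 = true := by decide +kernel

theorem rule3_9 : ruleOk3 9 = true := by decide +kernel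

theorem rule3_10 : ruleOk3 10 = true := by decide +kernel

theorem rule3_11 : ruleOk3 11 = true := by decide +kernel

theorem rule3_12 : ruleOk3 12 = true := by decide +kernel

theorem rule3_13 : ruleOk3 13 = true := by decide +kernel

theorem rule3_14 : ruleOk3 14 = true := by decide +kernel

theorem rule3_15 : ruleOk3 15 = true := by decide +kernel

theorem rule3_16 : ruleOk3 16 = true := by decide +kernel

theorem rule3_17 : ruleOk3 17 = true := by decide +kernel

theorem rule3_18 : ruleOk3 18 = true := by decide +kernel

theorem rule3_19 : ruleOk3 19 = true := by decide +kernel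

theorem rule3_20 : ruleOk3 20 = true := by decide +kernel

theorem rule3_21 : ruleOk3 21 = true := by decide +kernel

theorem rule3_22 : ruleOk3 22 = true := by decide +kernel

theorem rule3_23 : ruleOk3 23 = true := by decide +kernel

theorem rule3_24 : ruleOk3 24 = true := by decide +kernel

theorem rule3_25 : ruleOk3 25 = true := by decide +kernel

theorem rule3_26 : ruleOk3 26 = true := by decide +kernel

theorem rule3_27 : ruleOk3 27 = true := by decide +kernel

theorem rule3_28 : ruleOk3 28 = true := by decide +kernel

theorem rule3_29 : ruleOk3 29 = true := by decide +kernel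

theorem rule3_30 : ruleOk3 30 = true := by decide +kernel

theorem rule3_31 : ruleOk3 31 = true := by decide +kernel

theorem rule3_32 : ruleOk3 32 = true := by decide +kernel

theorem rule3_33 : ruleOk3 33 = true := by decide +kernel

theorem rule3_34 : ruleOk3 34 = true := by decide +kernel

theorem rule3_35 : ruleOk3 35 = true := by decide +kernel

theorem rules3 : ((List.range cert3.rules.length).all fun r =>
    cert3.ruleCheck r (cert3.rules.getD r ([], []))) = true := by
  rw [List.all_eq_true]
  intro r hr
  have hr' : r < 36 := lt_of_lt_of_eq (List.mem_range.mp hr) (show cert3.rules.length = 36 from rfl)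
  show ruleOk3 r = true
  interval_cases r
  exacts [rule3_0, rule3_1, rule3_2, rule3_3, rule3_4, rule3_5, rule3_6, rule3_7, rule3_8, rule3_9, rule3_10, rule3_11, rule3_12, rule3_13, rule3_14, rule3_15, rule3_16, rule3_17, rule3_18, rule3_19, rule3_20, rule3_21, rule3_22, rule3_23, rule3_24, rule3_25, rule3_26, rule3_27, rule3_28, rule3_29, rule3_30, rule3_31, rule3_32, rule3_33, rule3_34, rule3_35]

theorem check3 : cert3.check = true := by
  have he : cert3.equations = cert3.eqs := by
    refine List.ext_getElem (len3.1.trans len3.2.symm) fun i h1 h2 => ?_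
    have h : eqOk3 i = true := by
      have hi : i < 31 := len3.1 ▸ h1
      interval_cases i
      exacts [eq3_0, eq3_1, eq3_2, eq3_3, eq3_4, eq3_5, eq3_6, eq3_7, eq3_8, eq3_9, eq3_10, eq3_11, eq3_12, eq3_13, eq3_14, eq3_15, eq3_16, eq3_17, eq3_18, eq3_19, eq3_20, eq3_21, eq3_22, eq3_23, eq3_24, eq3_25, eq3_26, eq3_27, eq3_28, eq3_29, eq3_30]
    rw [eqOk3, beq_iff_eq, List.getD_eq_getElem _ _ h1, List.getD_eq_getElem _ _ h2] at h
    exact h
  simp only [Cert.check, Bool.and_eq_true, beq_iff_eq]
  exact ⟨⟨shaped3, he⟩, rules3⟩

end CfsgLib.SporadicMult.Suz
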