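import Cfsg.Agent.SporadicMult.SuzCoverStep

/-!
The group generated by the lifts of the seven generators on 196560 points, from the checks of the
relators.
-/

set_option autoImplicit false
set_option linter.style.haveILetI false

namespace CfsgLib.SporadicMult.Suz

open CfsgLib.CosetEnum

/-- The checks that make the tables a central extension. -/
structure Checks : Prop where
  rel : ∀ r < 33, allR (okRel r) 15 0 = true
  step : ∀ x < 7, allR (okStep x) 15 0 = true

/-- Shift every fibre by `c`. -/
def shift (c p : ℕ) : ℕ := 6 * (p / 6) + (p % 6 + c) % 6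

theorem cstep_eq (x p : ℕ) :
    cstep x p = 6 * (ext (etb x (p / 3072)) (p / 6 % 512) / 6) +
      (ext (etb x (p / 3072)) (p / 6 % 512) % 6 + p % 6) % 6 := by
  unfold cstep
  rw [force_eq, force_eq]
  rfl

theorem cwalk_cons (x : ℕ) (w : List ℕ) (p : ℕ) : cwalk (x :: w) p = cwalk w (cstep x p) := by
  show force (cstep x p) (cwalk w) = _
  rw [force_eq]

theorem cstep_shift (x c p : ℕ) : cstep x (shift c p) = shift c (cstep x p) := by
  have h1 : shift c p / 6 = p / 6 := by unfold shift; omega
  have h2 : shift c p / 3072 = p / 3072 := by unfold shift; omega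
  have h3 : shift c p % 6 = (p % 6 + c) % 6 := by unfold shift; omega
  rw [cstep_eq, cstep_eq, h1, h2, h3]
  unfold shift
  omega

theorem cwalk_shift : ∀ (w : List ℕ) (c p : ℕ), cwalk w (shift c p) = shift c (cwalk w p)
  | [], _, _ => rfl
  | x :: w, c, p => by rw [cwalk_cons, cwalk_cons, cstep_shift, cwalk_shift w]

theorem shift_shift (a b p : ℕ) : shift a (shift b p) = shift (a + b) p := by
  unfold shift; omega

variable (C : Checks)
include C

theorem cwalk_word (r : ℕ) (hr : r < 33) (p : ℕ) (hp : p < 196560) :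
    cwalk (CosetEnum.Suz.words.getD r []) p = shift (relShift.getD r 0) p := by
  have h := allR_spec 15 0 (C.rel r hr) (p / 6) (Nat.zero_le _) (by omega)
  rw [okRel, show Nat.blt (p / 6) 32760 = true from Nat.ble_eq_true_of_le (by omega), cond_true]
    at h
  have h' : cwalk (CosetEnum.Suz.words.getD r []) (6 * (p / 6)) =
      6 * (p / 6) + relShift.getD r 0 := Nat.eq_of_beq_eq_true h
  have hc : relShift.getD r 0 < 6 := by
    clear h h' hp
    revert r
    decide +kernel
  have hp' : p = shift (p % 6) (6 * (p / 6)) := by unfold shift; omega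
  conv_lhs => rw [hp']
  rw [cwalk_shift, h']
  unfold shift
  omega

theorem cstep_lt (x : ℕ) (hx : x < 7) (p : ℕ) (hp : p < 196560) : cstep x p < 196560 := by
  have h := allR_spec 15 0 (C.step x hx) (p / 6) (Nat.zero_le _) (by omega)
  rw [okStep, show Nat.blt (p / 6) 32760 = true from Nat.ble_eq_true_of_le (by omega), cond_true]
    at h
  have h' : cstep x (6 * (p / 6)) < 196560 := Nat.le_of_ble_eq_true h
  have hp' : p = shift (p % 6) (6 * (p / 6)) := by unfold shift; omega
  rw [hp', cstep_shift]
  unfold shift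
  omega

/-- The number of the relator saying that generator `x` squares to one. -/
def sqRel (x : ℕ) : ℕ := [0, 7, 13, 18, 22, 25, 27].getD x 0

omit C in
theorem sqRel_spec : ∀ x < 7, sqRel x < 33 ∧ CosetEnum.Suz.words.getD (sqRel x) [] = [x, x] := by
  decide

/-- The permutation of generator `x`. -/
noncomputable def stepPerm (x : Fin 7) : Equiv.Perm (Fin 196560) :=
  Equiv.ofBijective (fun p => ⟨cstep x p, cstep_lt C x x.isLt p p.isLt⟩) <| by
    rw [← Finite.injective_iff_bijective]
    intro p q h
    have h1 : cstep x p = cstep x q := congrArg Fin.val h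
    obtain ⟨hr, hw⟩ := sqRel_spec x x.isLt
    have e : cwalk [(x : ℕ), (x : ℕ)] p = cwalk [(x : ℕ), (x : ℕ)] q := by
      simp only [cwalk_cons, h1]
    rw [← hw, cwalk_word C _ hr p p.isLt, cwalk_word C _ hr q q.isLt] at e
    unfold shift at e
    exact Fin.ext (by omega)

/-- The generators; the inverse acts from the right as the table. -/
noncomputable def gp (x : ℕ) : Equiv.Perm (Fin 196560) :=
  if h : x < 7 then (stepPerm C ⟨x, h⟩)⁻¹ else 1

theorem gp_inv_apply (x : ℕ) (hx : x < 7) (p : Fin 196560) :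
    ((gp C x)⁻¹ p).val = cstep x p := by
  rw [gp, dif_pos hx, inv_inv]
  rfl

theorem prodw_gp_inv : ∀ (w : List ℕ), (∀ x ∈ w, x < 7) → ∀ p : Fin 196560,
    ((prodw (gp C) w)⁻¹ p).val = cwalk w p
  | [], _, p => by rw [prodw_nil, inv_one, Equiv.Perm.one_apply]; rfl
  | x :: w, hw, p => by
    rw [prodw_cons, mul_inv_rev, Equiv.Perm.mul_apply,
      prodw_gp_inv w (fun y hy => hw y (List.mem_cons_of_mem x hy)),
      gp_inv_apply C x (hw x List.mem_cons_self), cwalk_cons]

omit C in
/-- Shift every fibre by `c`, as a permutation. -/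
def shiftPerm (c : ℕ) : Equiv.Perm (Fin 196560) where
  toFun p := ⟨shift c p, by unfold shift; omega⟩
  invFun p := ⟨shift (5 * c) p, by unfold shift; omega⟩
  left_inv p := Fin.ext (by simp only [shift]; omega)
  right_inv p := Fin.ext (by simp only [shift]; omega)

omit C in
theorem shiftPerm_mul (a b : ℕ) : shiftPerm a * shiftPerm b = shiftPerm (a + b) :=
  Equiv.ext fun p => Fin.ext (shift_shift a b p)

omit C in
theorem shiftPerm_mod (a : ℕ) : shiftPerm a = shiftPerm (a % 6) :=
  Equiv.ext fun p => Fin.ext (show shift a p = shift (a % 6) p by unfold shift; omega)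

omit C in
theorem shiftPerm_zero : shiftPerm 0 = 1 :=
  Equiv.ext fun p => Fin.ext (show shift 0 p = (p : ℕ) by unfold shift; omega)

omit C in
theorem shiftPerm_pow : ∀ a : ℕ, shiftPerm 1 ^ a = shiftPerm a
  | 0 => by rw [pow_zero, shiftPerm_zero]
  | a + 1 => by rw [pow_succ, shiftPerm_pow a, shiftPerm_mul]

omit C in
theorem shiftPerm_eq_one (a : ℕ) (p : Fin 196560) (h : shiftPerm a p = p) : shiftPerm a = 1 := by
  have h' : shift a p = (p : ℕ) := congrArg Fin.val h
  rw [shiftPerm_mod, ← shiftPerm_zero]
  congr 1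
  unfold shift at h'
  omega

theorem commute_gp (x : ℕ) (c : ℕ) : shiftPerm c * gp C x = gp C x * shiftPerm c := by
  by_cases hx : x < 7
  · have h : Commute (shiftPerm c) (gp C x)⁻¹ := by
      refine Equiv.ext fun p => Fin.ext ?_
      show shift c ((gp C x)⁻¹ p : Fin 196560).val = ((gp C x)⁻¹ (shiftPerm c p) : Fin 196560).val
      rw [gp_inv_apply C x hx, gp_inv_apply C x hx]
      exact (cstep_shift x c p).symm
    exact (Commute.inv_right_iff.mp h).eq
  · rw [gp, dif_neg hx, one_mul, mul_one]

/-- The value of a relator. -/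
theorem prodw_word (r : ℕ) (hr : r < 33) :
    (prodw (gp C) (CosetEnum.Suz.words.getD r []))⁻¹ = shiftPerm (relShift.getD r 0) := by
  refine Equiv.ext fun p => Fin.ext ?_
  have hlt : ∀ r < 33, ∀ x ∈ CosetEnum.Suz.words.getD r [], x < 7 := by decide +kernel
  rw [prodw_gp_inv C _ (hlt r hr), cwalk_word C r hr p p.isLt]
  rfl

/-- The sixfold cover. -/
def cover : Subgroup (Equiv.Perm (Fin 196560)) :=
  Subgroup.closure (Set.range fun x : Fin 7 => gp C x)

theorem gp_mem (x : ℕ) : gp C x ∈ cover C := by
  by_cases hx : x < 7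
  · exact Subgroup.subset_closure ⟨⟨x, hx⟩, rfl⟩
  · rw [gp, dif_neg hx]; exact one_mem _

theorem shiftPerm_mem (c : ℕ) : shiftPerm c ∈ cover C := by
  have h : ∀ r < 33, shiftPerm (relShift.getD r 0) ∈ cover C := by
    intro r hr
    rw [← prodw_word C r hr]
    refine inv_mem (list_prod_mem fun y hy => ?_)
    obtain ⟨x, -, rfl⟩ := List.mem_map.mp hy
    exact gp_mem C x
  have h1 : shiftPerm 1 ∈ cover C := by
    rw [show shiftPerm 1 = shiftPerm 3 * shiftPerm 4 by rw [shiftPerm_mul, shiftPerm_mod 7]]
    exact mul_mem (h 3 (by decide)) (h 31 (by decide))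
  rw [← shiftPerm_pow]
  exact pow_mem h1 c

/-- The generators in the cover. -/
noncomputable def gc (x : ℕ) : cover C := ⟨gp C x, gp_mem C x⟩

theorem closure_gc : Subgroup.closure (Set.range fun x : Fin 7 => gc C x) = ⊤ := by
  refine Subgroup.map_injective (cover C).subtype_injective ?_
  rw [MonoidHom.map_closure, ← MonoidHom.range_eq_map, Subgroup.range_subtype, ← Set.range_comp]
  rfl

/-- The central element of order six. -/
def xi : cover C := ⟨shiftPerm 1, shiftPerm_mem C 1⟩

theorem xi_pow (c : ℕ) : ((xi C ^ c : cover C) : Equiv.Perm (Fin 196560)) = shiftPerm c := by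
  rw [SubmonoidClass.coe_pow]
  exact shiftPerm_pow c

theorem xi_central : xi C ∈ Subgroup.center (cover C) := by
  have h : cover C ≤ Subgroup.centralizer {shiftPerm 1} := by
    rw [cover, Subgroup.closure_le]
    rintro _ ⟨x, rfl⟩
    rw [SetLike.mem_coe, Subgroup.mem_centralizer_singleton_iff]
    exact (commute_gp C x 1).symm
  rw [Subgroup.mem_center_iff]
  intro a
  exact Subtype.ext (Subgroup.mem_centralizer_singleton_iff.mp (h a.2))

theorem orderOf_xi : orderOf (xi C) = 6 := by
  rw [← Subgroup.orderOf_coe, orderOf_eq_iff (by norm_num)]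
  refine ⟨?_, fun m hm hm0 h => ?_⟩
  · show shiftPerm 1 ^ 6 = 1
    rw [shiftPerm_pow, shiftPerm_mod, ← shiftPerm_zero]
  · have h' : shiftPerm m (0 : Fin 196560) = 0 := by
      rw [← shiftPerm_pow m]
      show (xi C : Equiv.Perm (Fin 196560)) ^ m • (0 : Fin 196560) = 0
      rw [h, one_smul]
    have h'' : shift m 0 = 0 := congrArg Fin.val h'
    unfold shift at h''
    omega

/-- The value of a relator in the cover. -/
theorem prodw_gc (r : ℕ) (hr : r < 33) :
    prodw (gc C) (CosetEnum.Suz.words.getD r []) * xi C ^ relShift.getD r 0 = 1 := by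
  refine Subtype.ext ?_
  rw [Subgroup.coe_mul, xi_pow, Subgroup.coe_one, ← prodw_word C r hr,
    mul_inv_eq_one]
  simp only [prodw, SubmonoidClass.coe_list_prod, List.map_map]
  rfl

end CfsgLib.SporadicMult.Suz
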